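import Mathlib.RingTheory.Ideal.Operations
import Mathlib.Algebra.GroupWithZero.NonZeroDivisors

/-!
# Recognising a chart of an affine blow-up

`IsChart I a φ` says that `φ : A → C` is (a copy of) the affine blow-up algebra `A[I/a]`: `φ a` is a nonzerodivisor that
generates `I C`, `φ` is injective and every element of `C` is a fraction `x / aⁿ` with `x ∈ Iⁿ`.
-/

set_option autoImplicit false
universe u

namespace Groth.Agent.Refuted.K826

/-- The ring `C` with `φ : A → C` is the chart `A[I/a]` of the blow-up of `Spec A` in `I`. -/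
structure IsChart {A C : Type u} [CommRing A] [CommRing C] (I : Ideal A) (a : A) (φ : A →+* C) : Prop where
  mem : a ∈ I
  reg : φ a ∈ nonZeroDivisors C
  dvd : ∀ x ∈ I, φ a ∣ φ x
  inj : Function.Injective φ
  gen : ∀ c : C, ∃ n : ℕ, ∃ x ∈ I ^ n, φ a ^ n * c = φ x

end Groth.Agent.Refuted.K826
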