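import Mathlib.Algebra.TrivSqZeroExt.Basic
import Mathlib.Algebra.MvPolynomial.CommRing
import Mathlib.Algebra.MvPolynomial.Eval
import Mathlib.RingTheory.Ideal.Span
import Mathlib.Data.Fin.VecNotation

/-!
# The ring of the two-chart counterexample

`T = k[X₀, X₁][e₁, e₂] / (e₁, e₂)²`.  The base is `Y = Spec T` (`x = X₀`, `y = X₁`), and all affine charts of
the two blow-ups `X = Bl_I Y`, `I = (x², xy, y², η)`, `η = x e₁ + y e₂`, and `X'' = Bl_J Y`, `J = (x, y, e₁, e₂)`, are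
again `Spec T`:

* chart 1 of `X` : `(X₀, X₁, e₁, e₂) = (x, t, α, e₂)`, `t = y/x`, `α = η/x²`; structure map `phi1`;
* chart 2 of `X` : `(X₀, X₁, e₁, e₂) = (y, s, γ, e₁)`, `s = x/y`, `γ = η/y²`; structure map `phi2`;
* chart 1 of `X''` : `(x, t, e₁/x, e₂/x)`; structure map `psi1`;
* chart 2 of `X''` : `(y, s, e₂/y, e₁/y)`; structure map `psi2`.
-/

set_option autoImplicit false
universe u
open TrivSqZeroExt MvPolynomial

namespace Groth.Agent.Refuted.K826

variable (k : Type u) [Field k]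

/-- The polynomial ring in two variables. -/
abbrev P : Type u := MvPolynomial (Fin 2) k

/-- `P ⊕ P e₁ ⊕ P e₂` with `e_i e_j = 0`. -/
abbrev T : Type u := TrivSqZeroExt (P k) (P k × P k)

variable {k}

/-- The first variable in `T`. -/
noncomputable abbrev x₀ : T k := inl (X 0)
/-- The second variable in `T`. -/
noncomputable abbrev x₁ : T k := inl (X 1)
/-- The first nilpotent generator. -/
noncomputable abbrev e₁ : T k := inr (1, 0)
/-- The second nilpotent generator. -/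
noncomputable abbrev e₂ : T k := inr (0, 1)
/-- `η = x e₁ + y e₂`. -/
noncomputable abbrev eta : T k := inr (X 0, X 1)

/-- The endomorphism of `T` with `X i ↦ p i`, `e₁ ↦ m₁`, `e₂ ↦ m₂`. -/
noncomputable def mk (p : Fin 2 → P k) (m₁ m₂ : P k × P k) : T k →+* T k where
  toFun z := inl (aeval p z.fst) + inr (aeval p z.snd.1 • m₁ + aeval p z.snd.2 • m₂)
  map_one' := by
    refine TrivSqZeroExt.ext ?_ (Prod.ext ?_ ?_) <;> simp
  map_mul' z w := by
    refine TrivSqZeroExt.ext ?_ (Prod.ext ?_ ?_)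
    · simp
    · simp only [fst_mul, map_mul, snd_mul, snd_add, snd_inl, snd_inr, zero_add, fst_add, fst_inl, fst_inr,
        add_zero]
      simp
      ring
    · simp only [fst_mul, map_mul, snd_mul, snd_add, snd_inl, snd_inr, zero_add, fst_add, fst_inl, fst_inr,
        add_zero]
      simp
      ring
  map_zero' := by
    refine TrivSqZeroExt.ext ?_ (Prod.ext ?_ ?_) <;> simp
  map_add' z w := by
    refine TrivSqZeroExt.ext ?_ (Prod.ext ?_ ?_)
    · simp
    · simp; ring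
    · simp; ring

/-- Chart 1 of `X = Bl_I Y`: `x ↦ x`, `y ↦ x t`, `e₁ ↦ x α - t e₂`, `e₂ ↦ e₂`. -/
noncomputable def phi1 : T k →+* T k := mk ![X 0, X 0 * X 1] (X 0, -X 1) (0, 1)

/-- Chart 2 of `X = Bl_I Y`: `x ↦ y s`, `y ↦ y`, `e₁ ↦ e₁`, `e₂ ↦ y γ - s e₁`. -/
noncomputable def phi2 : T k →+* T k := mk ![X 0 * X 1, X 0] (0, 1) (X 0, -X 1)

/-- Chart 1 of `X'' = Bl_J Y`: `x ↦ x`, `y ↦ x t`, `e_i ↦ x (e_i / x)`. -/
noncomputable def psi1 : T k →+* T k := mk ![X 0, X 0 * X 1] (X 0, 0) (0, X 0)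

/-- Chart 2 of `X'' = Bl_J Y`: `x ↦ y s`, `y ↦ y`, `e_i ↦ y (e_i / y)` (second basis vector `e₁/y`, first `e₂/y`). -/
noncomputable def psi2 : T k →+* T k := mk ![X 0 * X 1, X 0] (0, X 0) (X 0, 0)

variable (k)

/-- The centre of `X`: `I = (x², xy, y², η)`. -/
noncomputable def cI : Ideal (T k) := Ideal.span {x₀ ^ 2, x₀ * x₁, x₁ ^ 2, eta}

/-- The centre of `X''`: `J = (x, y, e₁, e₂)`. -/
noncomputable def cJ : Ideal (T k) := Ideal.span {x₀, x₁, e₁, e₂}

end Groth.Agent.Refuted.K826
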