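import Groth.Agent.Refuted.K390.Chart
import Groth.Agent.Refuted.K467.T4
import Groth.Agent.Refuted.K855.Nodes
import Groth.Agent.Refuted.K609.MVPull
import Groth.Agent.Refuted.K609.HProj
import Groth.Agent.Refuted.K870.Nodes
import Groth.Agent.Refuted.K332.Nu
import Groth.Agent.Flat2C.BlowExist
import Groth.Agent.Dual.H310.OpenBC
import Groth.Agent.Refuted.K855.CoverT
import Groth.Agent.Refuted.K390.Overlap
import Groth.Agent.Refuted.K899.T6
import Groth.Agent.Refuted.K640.V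
import Groth.Agent.Refuted.K836.Iface

/-!
# The two-chart example: the facts shared by the refutations of S15710, S15711, S15718

`Y = Spec T`, `f = b : X ⟶ Y` a blow-up in `cI k`.  Here: the charts of `X` and of the auxiliary `X'' = Bl_J Y`,
`R¹f_* O_X ≠ 0`, the factorisation `X'' ⟶ X ⟶ Y` with `R f''_* O = O_Y`, hence the left inverse of
`O_Y ⟶ Rf_* O_X` and the surjectivity of the traces, and a dualizing complex of `Y` in one degree.
-/

set_option autoImplicit false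
universe u
open CategoryTheory CategoryTheory.Limits AlgebraicGeometry TopologicalSpace BlowUp
attribute [local instance] HasDerivedCategory.standard

namespace Groth.Agent.Refuted.K826.Common
open Groth.Agent.Divis.BlowChart Groth.Agent.Refuted.K899

variable (k : Type u) [Field k] {X : Scheme.{u}} {b : X ⟶ Spec (CommRingCat.of (T k))}

/-- The two charts of `X = Bl_I Y`. -/
theorem exists_charts (hb : IsBlowUp b (idl (cI k))) :
    ∃ (j₁ j₂ : Spec (CommRingCat.of (T k)) ⟶ X) (_ : IsOpenImmersion j₁) (_ : IsOpenImmersion j₂)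
      (r : T k →+* TL k), j₁ ≫ b = Spec.map (CommRingCat.ofHom phi1) ∧
      j₂ ≫ b = Spec.map (CommRingCat.ofHom phi2) ∧ j₁.opensRange ⊔ j₂.opensRange = ⊤ ∧
      r.comp phi2 = (algebraMap (T k) (TL k)).comp phi1 ∧
      IsPullback (Spec.map (CommRingCat.ofHom (R := T k) (S := TL k) (algebraMap (T k) (TL k))))
        (Spec.map (CommRingCat.ofHom (R := T k) (S := TL k) r)) j₁ j₂ := by
  obtain ⟨j₁, h₁, hj₁, hr₁⟩ := K390.exists_chart hb (K467.isChart_phi1 k)
  obtain ⟨j₂, h₂, hj₂, hr₂⟩ := K390.exists_chart hb (K467.isChart_phi2 k)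
  obtain ⟨r, hr⟩ := exists_r (k := k)
  have hl : IsLocalization.Away ((x₁ : T k) ^ 2) (TL k) := isLocalization_sq
  refine ⟨j₁, j₂, h₁, h₂, r, hj₁, hj₂, K855.Cover.cover_cI' hb j₁ j₂ hr₁ hr₂, hr, ?_⟩
  refine K390.isPullback_charts (C₁ := T k) (C₂ := T k) (C₁₂ := TL k) hb (K467.isChart_phi1 k) (x₁ ^ 2) ?_ r hr j₁ j₂ hj₁ hj₂ hr₂
  rw [map_pow, map_pow, K467.phi1_x₀, K467.phi1_x₁, mul_pow]

/-- The two charts of `X'' = Bl_J Y`. -/
theorem exists_charts'' (hb : IsBlowUp b (idl (cJ k))) :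
    ∃ (j₁ j₂ : Spec (CommRingCat.of (T k)) ⟶ X) (_ : IsOpenImmersion j₁) (_ : IsOpenImmersion j₂)
      (r : T k →+* TL k), j₁ ≫ b = Spec.map (CommRingCat.ofHom psi1) ∧
      j₂ ≫ b = Spec.map (CommRingCat.ofHom psi2) ∧ j₁.opensRange ⊔ j₂.opensRange = ⊤ ∧
      r.comp psi2 = (algebraMap (T k) (TL k)).comp psi1 ∧
      IsPullback (Spec.map (CommRingCat.ofHom (R := T k) (S := TL k) (algebraMap (T k) (TL k))))
        (Spec.map (CommRingCat.ofHom (R := T k) (S := TL k) r)) j₁ j₂ := by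
  obtain ⟨j₁, h₁, hj₁, hr₁⟩ := K390.exists_chart hb (K467.isChart_psi1 k)
  obtain ⟨j₂, h₂, hj₂, hr₂⟩ := K390.exists_chart hb (K467.isChart_psi2 k)
  obtain ⟨r, hr⟩ := exists_r'' (k := k)
  refine ⟨j₁, j₂, h₁, h₂, r, hj₁, hj₂, K855.Cover.cover_cJ' hb j₁ j₂ hr₁ hr₂, hr, ?_⟩
  refine K390.isPullback_charts (C₁ := T k) (C₂ := T k) (C₁₂ := TL k) hb (K467.isChart_psi1 k) x₁ ?_ r hr j₁ j₂ hj₁ hj₂ hr₂
  rw [K467.psi1_x₀, K467.psi1_x₁]

/-- `R¹f_* O_X ≠ 0`. -/
theorem not_isZero_Rpush [HasInjectiveResolutions X.Modules] (hb : IsBlowUp b (idl (cI k))) :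
    ¬ IsZero ((Coh.Rpush b 1).obj (Coh.structureModule X)) := by
  have hp : IsProper b := K609.HProj.isProper hb
  obtain ⟨j₁, j₂, h₁, h₂, r, hj₁, hj₂, hcov, hr, hpb⟩ := exists_charts k hb
  obtain ⟨c, hc⟩ := cech_X r hr
  exact K609.MVPull.not_isZero_Rpush (C₁ := T k) (C₂ := T k) (C₁₂ := TL k) b j₁ j₂ hcov _ r hpb c hc

/-- `R^p f''_* O = 0` for `p > 0`. -/
theorem isZero_Rpush [HasInjectiveResolutions X.Modules] (hb : IsBlowUp b (idl (cJ k))) (p : ℕ) (hp : 0 < p) :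
    IsZero ((Coh.Rpush b p).obj (Coh.structureModule X)) := by
  have h : IsProper b := K609.HProj.isProper hb
  obtain ⟨j₁, j₂, h₁, h₂, r, hj₁, hj₂, hcov, hr, hpb⟩ := exists_charts'' k hb
  exact K609.MVPull.isZero_Rpush (C₁ := T k) (C₂ := T k) (C₁₂ := TL k) b j₁ j₂ hcov _ r hpb (cech_X''_surj r hr) p hp

/-- `f''_* O = O_Y`. -/
theorem isIso_unitToPush (hb : IsBlowUp b (idl (cJ k))) : IsIso (ClSub.unitToPush b) := by
  have h : IsProper b := K609.HProj.isProper hb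
  obtain ⟨j₁, j₂, h₁, h₂, r, hj₁, hj₂, hcov, hr, hpb⟩ := exists_charts'' k hb
  refine K609.MVPull.isIso_unitToPush (C₁ := T k) (C₂ := T k) (C₁₂ := TL k) b j₁ j₂ hcov _ r hpb psi1 psi2 hj₁ hj₂ (fun a h _ => ?_)
    (fun c₁ c₂ h => cech_X''_glue r hr c₁ c₂ h)
  exact (K467.isChart_psi1 k).inj (by rw [h, map_zero])

variable {k} in
/-- The morphism `X'' ⟶ X` and the two facts about `X'' ⟶ Y`. -/
theorem exists_nu (hb : IsBlowUp b (idl (cI k))) :
    ∃ (X'' : Scheme.{u}) (ν : X'' ⟶ X), IsNoetherian X'' ∧ IsProper (ν ≫ b) ∧ IsIso (ClSub.unitToPush (ν ≫ b)) ∧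
      ∀ [HasInjectiveResolutions X''.Modules] (p : ℕ), 0 < p →
        IsZero ((Coh.Rpush (ν ≫ b) p).obj (Coh.structureModule X'')) := by
  have hb'' := Flat2C.BlowExist.isBlowUp_b (idl (cJ k))
  obtain ⟨ν, hν⟩ := K332.Nu.exists_nu k hb hb''
  have hp := K609.HProj.isProper hb''
  refine ⟨_, ν, ?_, ?_, ?_, ?_⟩
  · exact Dual.H310.OpenBC.isNoetherian_of_finiteType (Flat2C.BlowExist.b (idl (cJ k)))
  · rw [hν]; exact hp
  · rw [hν]; exact isIso_unitToPush k hb''
  · intro _ p hp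
    rw [hν]; exact isZero_Rpush k hb'' p hp

/-- The left inverse of `O_Y ⟶ Rf_* O_X`. -/
theorem hasRetr (hb : IsBlowUp b (idl (cI k))) [DCoh.HasRpush b] [DCoh.HasLpull b] : K870.SplitNu.HasRetr b := by
  obtain ⟨X'', ν, -, -, h0, hp⟩ := exists_nu hb
  have := K870.Inst.hasInjectiveResolutions X''
  exact K870.Nodes.hasRetr ν b h0 hp

/-- The trace of `f` is an epimorphism on cohomology. -/
theorem epi_trace (hb : IsBlowUp b (idl (cI k))) [DCoh.HasRpush b] (h : DCoh.RpushPreservesQCoh b)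
    [DCoh.HasShriek b h] (K : DCoh.DQCoh (Spec (CommRingCat.of (T k)))) (n : ℤ) :
    Epi ((DerivedCategory.homologyFunctor (Spec (CommRingCat.of (T k))).Modules n).map
      ((ObjectProperty.ι DCoh.IsQCohD).map ((DCoh.trace b h).app K))) := by
  have := K609.HProj.isProper hb
  have := K870.Inst.hasLpull b
  exact K870.SplitNu.epi_homology_trace (hasRetr k hb) h K n

/-- A dualizing complex on `Spec T` in degree `n` only. -/
theorem exists_K [∀ (U : Scheme.{u}) (j : U ⟶ Spec (CommRingCat.of (T k))) [IsOpenImmersion j],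
      PreservesFiniteLimits (Scheme.Modules.restrictFunctor j)]
    [∀ (R : CommRingCat.{u}), PreservesFiniteLimits (tilde.functor R)] (n : ℤ) :
    ∃ K : DCoh.DQCoh (Spec (CommRingCat.of (T k))),
      Dual2.IsDualizingSch (Spec (CommRingCat.of (T k))) K.obj ∧
        ∀ i : ℤ, i ≠ n → IsZero (DCoh.HD K.obj i) := by
  have := K855.Dim.irreducible_T k
  exact K870.Nodes.exists_K k n

end Groth.Agent.Refuted.K826.Common
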