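import Groth.Agent.Refuted.K826.Common
import Groth.Agent.Refuted.K855.Meet
import Groth.Agent.Refuted.K390.Exc

/-!
# The two-chart example as a `GeoEx`
-/

set_option autoImplicit false
universe u
open CategoryTheory CategoryTheory.Limits AlgebraicGeometry TopologicalSpace BlowUp
attribute [local instance] HasDerivedCategory.standard

namespace Groth.Agent.Refuted.K826.Common
open Groth.Agent.Divis.BlowChart Groth.Agent.Refuted.K899 Groth.Agent.Refuted.K836

variable (k : Type u) [Field k] {X : Scheme.{u}} {b : X ⟶ Spec (CommRingCat.of (T k))}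

/-- The geometric data of any blow-up of `Spec T` in `cI`. -/
noncomputable def geoEx (hb : IsBlowUp b (idl (cI k))) : GeoEx.{u} where
  X := X
  Y := Spec (CommRingCat.of (T k))
  f := b
  noethX := by
    have hp : IsProper b := K609.HProj.isProper hb
    exact Dual.H310.OpenBC.isNoetherian_of_finiteType b
  noethY := inferInstance
  affY := inferInstance
  excX := by
    have hp : IsProper b := K609.HProj.isProper hb
    exact K390.Exc.isExcellent_affineOpens_of_algebra k (T k) b
  excY := K390.Exc.isExcellent_affineOpens_of_algebra k (T k) (𝟙 _)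
  cmX := by
    obtain ⟨j₁, j₂, h₁, h₂, r, hj₁, hj₂, hcov, hr, hpb⟩ := exists_charts k hb
    exact K855.Nodes.cm_stalk k j₁ j₂ hcov
  cmY := K855.Nodes.cm_stalk_base k
  pdX := by
    obtain ⟨j₁, j₂, h₁, h₂, r, hj₁, hj₂, hcov, hr, hpb⟩ := exists_charts k hb
    have hne : (j₁.opensRange ⊓ j₂.opensRange : X.Opens) ≠ ⊥ :=
      K855.Meet.inf_ne_bot_of_isPullback (C₁₂ := TL k) _ _ j₁ j₂ hpb
    exact fun C hC => K855.Dim.pureDim j₁ j₂ hcov hne C hC
  pdY := fun C hC => K855.Dim.pureDim_base C hC
  prop := K609.HProj.isProper hb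
  proj := K609.HProj.locally_hprojective hb
  V := (K640.V.exists_V hb).choose
  codim := (K640.V.exists_V hb).choose_spec.1
  denseV := (K640.V.exists_V hb).choose_spec.2.1
  denseVX := (K640.V.exists_V hb).choose_spec.2.2.1
  iso := (K640.V.exists_V hb).choose_spec.2.2.2

/-- The left inverse of `O_Y ⟶ Rf_* O_X` for the example. -/
theorem hasRetr_geoEx (hb : IsBlowUp b (idl (cI k))) [DCoh.HasRpush (geoEx k hb).f]
    [DCoh.HasLpull (geoEx k hb).f] : K870.SplitNu.HasRetr (geoEx k hb).f :=
  have : DCoh.HasRpush b := inferInstanceAs (DCoh.HasRpush (geoEx k hb).f)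
  have : DCoh.HasLpull b := inferInstanceAs (DCoh.HasLpull (geoEx k hb).f)
  hasRetr k hb

/-- `R¹f_* O_X ≠ 0` for the example. -/
theorem not_isZero_geoEx (hb : IsBlowUp b (idl (cI k))) [h : HasInjectiveResolutions (geoEx k hb).X.Modules] :
    ¬ IsZero ((Coh.Rpush (geoEx k hb).f 1).obj (Coh.structureModule (geoEx k hb).X)) :=
  @not_isZero_Rpush k _ X b h hb

/-- The dualizing complex of the example. -/
theorem nonempty_dualEx (hb : IsBlowUp b (idl (cI k))) : Nonempty (DualEx (geoEx k hb)) := by
  have r1 : ∀ (U : Scheme.{u}) (j : U ⟶ (geoEx k hb).Y) [IsOpenImmersion j],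
    PreservesFiniteLimits (Scheme.Modules.restrictFunctor j) := K870.Inst.restrict_exact _
  have r2 : ∀ (R : CommRingCat.{u}), PreservesFiniteLimits (tilde.functor R) := K870.Inst.tilde_exact
  obtain ⟨K, hK, hd⟩ := @exists_K k _ r1 r2 (-((2 : ℕ) : ℤ))
  exact ⟨{ r1 := r1, r2 := r2, K := K, dual := hK, deg := hd }⟩

/-- The example over some field of every universe. -/
theorem exists_example : ∃ (X : Scheme.{u}) (b : X ⟶ Spec (CommRingCat.of (T (ULift.{u} ℚ)))),
    IsBlowUp b (idl (cI (ULift.{u} ℚ))) :=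
  ⟨_, _, Flat2C.BlowExist.isBlowUp_b _⟩

end Groth.Agent.Refuted.K826.Common
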